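import Groth.Agent.H31.FreeOn
import Groth.Agent.H45.FinFree.FreeSlice

/-!
# `Hom(j_{U!} O_U, -)` is the sections functor, additively
-/

set_option autoImplicit false
universe u
open CategoryTheory CategoryTheory.Limits Opposite

namespace Groth.Agent.H45.QC

variable {C : Type u} [SmallCategory C] {J : GrothendieckTopology C}
  (O : Sheaf J CommRingCat.{u}) (U : C)

/-- Sections over `U` of a sheaf of modules, as an abelian group. -/
noncomputable abbrev secMod : ModSite.Mod O ⥤ AddCommGrpCat.{u} :=
  SheafOfModules.toSheaf (ModSite.ringSh O) ⋙ (sheafSections J AddCommGrpCat.{u}).obj (op U)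

instance additive_extZero : (ModSite.extZero O U).Additive :=
  (ModSite.extZeroAdj O U).left_adjoint_additive

lemma freeOnHomEquiv_add (T : ModSite.Mod O) (h h' : ModSite.freeOn O U ⟶ T) :
    Groth.Agent.H31.freeOnHomEquiv O U T (h + h') =
      Groth.Agent.H31.freeOnHomEquiv O U T h + Groth.Agent.H31.freeOnHomEquiv O U T h' := by
  rw [Groth.Agent.H31.freeOnHomEquiv_apply, Groth.Agent.H31.freeOnHomEquiv_apply,
    Groth.Agent.H31.freeOnHomEquiv_apply, Adjunction.homAddEquiv_add]
  rfl

/-- `Hom(j_{U!} O_U, T) ≃+ T(U)`. -/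
noncomputable def freeOnHomAddEquiv (T : ModSite.Mod O) :
    (ModSite.freeOn O U ⟶ T) ≃+ T.val.obj (op U) :=
  { Groth.Agent.H31.freeOnHomEquiv O U T with
    map_add' := freeOnHomEquiv_add O U T }

/-- `Hom(j_{U!} O_U, -)` is the sections functor at `U`. -/
noncomputable def coyonedaFreeOnIso :
    preadditiveCoyoneda.obj (op (ModSite.freeOn O U)) ≅ secMod O U :=
  NatIso.ofComponents
    (fun T => (AddEquiv.toAddCommGrpIso (freeOnHomAddEquiv O U T) :
      (preadditiveCoyoneda.obj (op (ModSite.freeOn O U))).obj T ≅ (secMod O U).obj T))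
    (by
      intro T T' p
      ext h
      exact Groth.Agent.H31.freeOnHomEquiv_naturality O U h p)

end Groth.Agent.H45.QC
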