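import Mathlib.CategoryTheory.Sites.Limits
import Mathlib.CategoryTheory.Sites.LocallyBijective
import Mathlib.Algebra.Category.Grp.Limits
import Mathlib.Algebra.Category.Grp.Colimits
import Mathlib.Algebra.DirectSum.Basic
import Mathlib.CategoryTheory.Limits.FunctorCategory.Basic

/-!
# The presheaf direct sum of a family of abelian sheaves, explicitly
-/

set_option autoImplicit false
universe u
open CategoryTheory CategoryTheory.Limits Opposite DirectSum

namespace Groth.Agent.H45.QC

variable {C : Type u} [SmallCategory C] {J : GrothendieckTopology C} {ι : Type u}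
  (F : ι → Sheaf J AddCommGrpCat.{u})

/-- The family of groups of sections over `V`. -/
abbrev secFam (V : Cᵒᵖ) (i : ι) : Type u := ((F i).obj.obj V : Type u)

/-- The restriction maps of the family. -/
abbrev resFam {V V' : Cᵒᵖ} (f : V ⟶ V') (i : ι) : secFam F V i →+ secFam F V' i :=
  ((F i).obj.map f).hom

/-- The presheaf direct sum `V ↦ ⨁ i, F i (V)`. -/
noncomputable def dsPre : Cᵒᵖ ⥤ AddCommGrpCat.{u} where
  obj V := AddCommGrpCat.of (⨁ i, secFam F V i)
  map f := AddCommGrpCat.ofHom (DirectSum.map (resFam F f))
  map_id V := by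
    ext x i
    simp [resFam]
  map_comp f g := by
    ext x i
    simp [resFam]

/-- Elements of the presheaf direct sum, as elements of a direct sum. -/
abbrev toDS {V : Cᵒᵖ} (x : (dsPre F).obj V) : ⨁ i, secFam F V i := x

lemma dsPre_map_apply {V V' : Cᵒᵖ} (f : V ⟶ V') (x : (dsPre F).obj V) (i : ι) :
    toDS F (((dsPre F).map f).hom x) i = resFam F f i (toDS F x i) :=
  DirectSum.map_apply _ _ _

open Classical in
/-- The inclusion of a summand. -/
noncomputable def dsInj (i : ι) : (F i).obj ⟶ dsPre F where
  app V := AddCommGrpCat.ofHom (DirectSum.of (secFam F V) i)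
  naturality V V' f := by
    ext x
    change DirectSum.of (secFam F V') i (resFam F f i x) =
      DirectSum.map (resFam F f) (DirectSum.of (secFam F V) i x)
    rw [DirectSum.map_of]

/-- The projection to a component. -/
noncomputable def dsProj (i : ι) : dsPre F ⟶ (F i).obj where
  app V := AddCommGrpCat.ofHom (DFinsupp.evalAddMonoidHom (β := secFam F V) i)
  naturality V V' f := by
    ext x
    exact dsPre_map_apply F f x i

lemma dsProj_apply {V : Cᵒᵖ} (i : ι) (x : (dsPre F).obj V) :
    ((dsProj F i).app V).hom x = toDS F x i := rfl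

/-- The cocone of presheaves with point the presheaf direct sum. -/
noncomputable def dsCocone : Cocone (Discrete.functor F ⋙ sheafToPresheaf J AddCommGrpCat.{u}) where
  pt := dsPre F
  ι := Discrete.natTrans (fun i => dsInj F i.as)

/-- The legs of a cocone over the evaluated diagram, as additive maps. -/
abbrev legHom (V : Cᵒᵖ)
    (s : Cocone ((Discrete.functor F ⋙ sheafToPresheaf J AddCommGrpCat.{u}) ⋙
      (evaluation Cᵒᵖ AddCommGrpCat.{u}).obj V)) (i : ι) : secFam F V i →+ s.pt :=
  (s.ι.app ⟨i⟩).hom

open Classical in
/-- The direct sum is the coproduct in abelian groups. -/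
noncomputable def dsIsColimitEval (V : Cᵒᵖ) :
    IsColimit (((evaluation Cᵒᵖ AddCommGrpCat.{u}).obj V).mapCocone (dsCocone F)) where
  desc s := AddCommGrpCat.ofHom (DirectSum.toAddMonoid (legHom F V s))
  fac s j := by
    obtain ⟨i⟩ := j
    ext x
    exact DirectSum.toAddMonoid_of (legHom F V s) i x
  uniq s m hm := by
    ext : 1
    refine DirectSum.addHom_ext (β := secFam F V) (γ := s.pt) (fun i x => ?_)
    have h1 := ConcreteCategory.congr_hom (hm ⟨i⟩) x
    refine h1.trans ?_
    exact (DirectSum.toAddMonoid_of (legHom F V s) i x).symm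

/-- The presheaf direct sum is the coproduct of presheaves. -/
noncomputable def dsIsColimit : IsColimit (dsCocone F) :=
  evaluationJointlyReflectsColimits _ (dsIsColimitEval F)

end Groth.Agent.H45.QC
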