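import Mathlib.CategoryTheory.Sites.LocallyBijective
import Mathlib.CategoryTheory.Sites.Sheafification
import Groth.Prelude.Def_CohCx

/-!
# Quasi-compact objects of a site: every covering family has a finite covering subfamily
-/

set_option autoImplicit false
universe u
open CategoryTheory CategoryTheory.Limits Opposite

namespace Groth.Agent.H45.QC

variable {C : Type u} [SmallCategory C] (J : GrothendieckTopology C)

/-- The sheafified representable `h_U^#`. -/
noncomputable abbrev hsh (U : C) : Sheaf J (Type u) :=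
  (presheafToSheaf J (Type u)).obj (yoneda.obj U)

/-- The class of a morphism `V ⟶ U` as a section of `h_U^#` over `V`. -/
noncomputable def cls {V U : C} (φ : V ⟶ U) : (hsh J U).obj.obj (op V) :=
  (toSheafify J (yoneda.obj U)).app (op V) φ

/-- The map `h_V^# ⟶ h_U^#` induced by `g : V ⟶ U`. -/
noncomputable abbrev hmap {V U : C} (g : V ⟶ U) : hsh J V ⟶ hsh J U :=
  (presheafToSheaf J (Type u)).map (yoneda.map g)

lemma hmap_cls {W V U : C} (g : V ⟶ U) (ψ : W ⟶ V) :
    (hmap J g).hom.app (op W) (cls J ψ) = cls J (ψ ≫ g) := by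
  have h := toSheafify_naturality J (yoneda.map g)
  have h2 := congrArg (fun t => t.app (op W)) h
  exact (ConcreteCategory.congr_hom h2 ψ).symm

lemma map_cls {W V U : C} (h : W ⟶ V) (φ : V ⟶ U) :
    (hsh J U).obj.map h.op (cls J φ) = cls J (h ≫ φ) := by
  have := (toSheafify J (yoneda.obj U)).naturality h.op
  exact (ConcreteCategory.congr_hom this φ).symm

/-- The sieve of arrows over which a section of `K` lifts to one of the `L i`. -/
def liftSieve {K : Sheaf J (Type u)} {I : Type u} {L : I → Sheaf J (Type u)} (f : ∀ i, L i ⟶ K)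
    {U : C} (s : K.obj.obj (op U)) : Sieve U where
  arrows V h := ∃ (i : I) (x : (L i).obj.obj (op V)), (f i).hom.app (op V) x = K.obj.map h.op s
  downward_closed := by
    rintro V V' h ⟨i, x, hx⟩ h'
    refine ⟨i, (L i).obj.map h'.op x, ?_⟩
    have := (f i).hom.naturality h'.op
    rw [op_comp, K.obj.map_comp]
    change ((L i).obj.map h'.op ≫ (f i).hom.app (op V')) x = _
    rw [this]
    change K.obj.map h'.op ((f i).hom.app (op V) x) = _
    rw [hx]
    rfl

lemma jointlySurjective_iff {K : Sheaf J (Type u)} {I : Type u} {L : I → Sheaf J (Type u)}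
    (f : ∀ i, L i ⟶ K) :
    CohCx.JointlySurjective f ↔ ∀ (U : C) (s : K.obj.obj (op U)), liftSieve J f s ∈ J U := by
  constructor
  · intro h U s
    obtain ⟨S, hS, hS'⟩ := h U s
    exact J.superset_covering (fun V g hg => hS' V g hg) hS
  · intro h U s
    exact ⟨_, h U s, fun V g hg => hg⟩

/-- A covering family gives a jointly surjective family of maps of sheaves. -/
lemma jointlySurjective_of_cover {W : C} {κ : Type u} (Y : κ → C) (g : ∀ k, Y k ⟶ W)
    (hg : Sieve.ofArrows Y g ∈ J W) :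
    CohCx.JointlySurjective (fun k => hmap J (g k)) := by
  rw [jointlySurjective_iff]
  intro U s
  refine J.transitive (Presheaf.imageSieve_mem J (toSheafify J (yoneda.obj W)) s) _ ?_
  rintro V h ⟨φ, hφ⟩
  change V ⟶ W at φ
  refine J.superset_covering ?_ (J.pullback_stable φ hg)
  rintro V' h' ⟨Z, a, b, ⟨k⟩, hab⟩
  refine ⟨k, cls J a, ?_⟩
  rw [hmap_cls, hab, ← map_cls, op_comp, (hsh J W).obj.map_comp]
  change _ = (hsh J W).obj.map h'.op ((hsh J W).obj.map h.op s)
  rw [← hφ]
  rfl

/-- A family of arrows whose associated maps of sheaves are jointly surjective is covering. -/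
lemma cover_of_jointlySurjective {W : C} {κ : Type u} (Y : κ → C) (g : ∀ k, Y k ⟶ W)
    (h : CohCx.JointlySurjective (fun k => hmap J (g k))) : Sieve.ofArrows Y g ∈ J W := by
  rw [jointlySurjective_iff] at h
  have h1 := h W (cls J (𝟙 W))
  refine J.transitive h1 _ ?_
  rintro V a ⟨k, x, hx⟩
  refine J.transitive (Presheaf.imageSieve_mem J (toSheafify J (yoneda.obj (Y k))) x) _ ?_
  rintro V' b ⟨ψ, hψ⟩
  change V' ⟶ Y k at ψ
  have hψ' : cls J ψ = (hsh J (Y k)).obj.map b.op x := hψ
  have e : cls J (ψ ≫ g k) = cls J (b ≫ a) := by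
    rw [← hmap_cls, hψ']
    have := (hmap J (g k)).hom.naturality b.op
    change ((hsh J (Y k)).obj.map b.op ≫ (hmap J (g k)).hom.app (op V')) x = _
    rw [this]
    change (hsh J W).obj.map b.op ((hmap J (g k)).hom.app (op V) x) = _
    rw [hx, map_cls, map_cls, Category.comp_id]
  have inst : Presheaf.IsLocallyInjective J (toSheafify J (yoneda.obj W)) := inferInstance
  have h3 := inst.equalizerSieve_mem (X := op V') (ψ ≫ g k) (b ≫ a) e
  refine J.superset_covering ?_ h3
  intro V'' c hc
  have hc' : c ≫ ψ ≫ g k = c ≫ b ≫ a := hc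
  refine ⟨_, c ≫ ψ, g k, ⟨k⟩, ?_⟩
  rw [Category.assoc, hc', Category.assoc]

/-- **Finite subcover.** If `h_W^#` is a quasi-compact object of the topos, every covering
family of `W` has a finite covering subfamily. -/
theorem exists_finite_subcover {W : C} (hW : CohCx.IsQcObject (hsh J W))
    {κ : Type u} (Y : κ → C) (g : ∀ k, Y k ⟶ W) (hg : Sieve.ofArrows Y g ∈ J W) :
    ∃ t : Finset κ, Sieve.ofArrows (fun k : t => Y k.1) (fun k : t => g k.1) ∈ J W := by
  obtain ⟨t, ht⟩ := hW κ (fun k => hsh J (Y k)) (fun k => hmap J (g k))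
    (jointlySurjective_of_cover J Y g hg)
  exact ⟨t, cover_of_jointlySurjective J (fun k : t => Y k.1) (fun k : t => g k.1) ht⟩

/-- Finite subcover of a covering sieve. -/
theorem exists_finite_subcover_sieve {W : C} (hW : CohCx.IsQcObject (hsh J W))
    (S : Sieve W) (hS : S ∈ J W) :
    ∃ (n : ℕ) (Y : Fin n → C) (g : ∀ k, Y k ⟶ W), (∀ k, S (g k)) ∧ Sieve.ofArrows Y g ∈ J W := by
  classical
  let κ : Type u := Σ V : C, {h : V ⟶ W // S h}
  have hcov : Sieve.ofArrows (fun k : κ => k.1) (fun k : κ => k.2.1) ∈ J W := by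
    refine J.superset_covering ?_ hS
    intro V h hh
    exact ⟨V, 𝟙 V, h, ⟨(⟨V, h, hh⟩ : κ)⟩, Category.id_comp _⟩
  obtain ⟨t, ht⟩ := exists_finite_subcover J hW (fun k : κ => k.1) (fun k : κ => k.2.1) hcov
  let e := t.equivFin
  refine ⟨t.card, fun i => (e.symm i).1.1, fun i => (e.symm i).1.2.1, fun i => (e.symm i).1.2.2, ?_⟩
  refine J.superset_covering ?_ ht
  rintro V h ⟨Z, a, b, ⟨k⟩, hab⟩
  refine ⟨_, a ≫ eqToHom (by rw [Equiv.symm_apply_apply]), (e.symm (e k)).1.2.1, ⟨e k⟩, ?_⟩
  rw [← hab]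
  have : ∀ (k' : t) (hk : k' = k), (a ≫ eqToHom (by rw [hk])) ≫ (k').1.2.1 = a ≫ k.1.2.1 := by
    rintro k' rfl
    simp
  exact this _ (Equiv.symm_apply_apply e k)

end Groth.Agent.H45.QC
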