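import Groth.Agent.H45.QC.SectionsCoprod
import Groth.Agent.H45.QC.FreeOnHom
import Groth.Agent.H45.SheafTensor.ToSheaf
import Groth.Agent.H82.Compact
import Groth.Prelude.Def_CohSite

/-!
# `j_{U!} O_U` is projective for `U` weakly contractible and finitely factoring for `U` qc
-/

set_option autoImplicit false
universe u
open CategoryTheory CategoryTheory.Limits Opposite

namespace Groth.Agent.H45.QC

variable {C : Type u} [SmallCategory C] {J : GrothendieckTopology C}
  (O : Sheaf J CommRingCat.{u}) (U : C)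

/-- Sections over a weakly contractible object send epimorphisms of modules to surjections. -/
theorem surjective_app_of_epi (hwc : CohSite.IsWeaklyContractible J U) {E X : ModSite.Mod O}
    (e : E ⟶ X) [Epi e] : Function.Surjective (e.val.app (op U)) := by
  have h1 : Epi ((SheafOfModules.toSheaf.{u} (ModSite.ringSh O)).map e) := inferInstance
  have h2 : Sheaf.IsLocallySurjective ((SheafOfModules.toSheaf.{u} (ModSite.ringSh O)).map e) :=
    (Sheaf.isLocallySurjective_iff_epi' _ _).2 h1
  have h3 : Epi ((sheafCompose J (forget AddCommGrpCat.{u})).map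
      ((SheafOfModules.toSheaf.{u} (ModSite.ringSh O)).map e)) := inferInstance
  exact hwc _ _ _ h3

/-- `j_{U!} O_U` is a projective object when `U` is weakly contractible. -/
theorem projective_freeOn (hwc : CohSite.IsWeaklyContractible J U) :
    Projective (ModSite.freeOn O U) where
  factors {E X} f e _ := by
    obtain ⟨τ, hτ⟩ := surjective_app_of_epi O U hwc e (Groth.Agent.H31.freeOnHomEquiv O U X f)
    refine ⟨(Groth.Agent.H31.freeOnHomEquiv O U E).symm τ, ?_⟩
    apply (Groth.Agent.H31.freeOnHomEquiv O U X).injective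
    rw [Groth.Agent.H31.freeOnHomEquiv_naturality, Equiv.apply_symm_apply]
    exact hτ

open Classical in
/-- Elements of a coproduct of abelian groups are killed by maps killing finitely many summands. -/
lemma exists_finset_kill {ι : Type u} {K : Discrete ι ⥤ AddCommGrpCat.{u}} (c : Cocone K)
    (hc : IsColimit c) (σ : c.pt) :
    ∃ F : Finset ι, ∀ (Y : AddCommGrpCat.{u}) (g : c.pt ⟶ Y),
      (∀ i ∈ F, c.ι.app ⟨i⟩ ≫ g = 0) → g.hom σ = 0 := by
  let A : ι → Type u := fun i => (K.obj ⟨i⟩ : Type u)
  let r : c.pt ⟶ AddCommGrpCat.of (DirectSum ι A) :=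
    hc.desc ⟨AddCommGrpCat.of (DirectSum ι A),
      Discrete.natTrans (fun i => AddCommGrpCat.ofHom (DirectSum.of A i.as))⟩
  let leg : ∀ i, A i →+ c.pt := fun i => (c.ι.app ⟨i⟩).hom
  let w : AddCommGrpCat.of (DirectSum ι A) ⟶ c.pt :=
    AddCommGrpCat.ofHom (DirectSum.toAddMonoid leg)
  have hw : ∀ i (a : A i), w.hom (DirectSum.of A i a) = leg i a :=
    fun i a => DirectSum.toAddMonoid_of leg i a
  have hrw : r ≫ w = 𝟙 _ := by
    apply hc.hom_ext
    rintro ⟨i⟩
    rw [hc.fac_assoc, Category.comp_id]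
    ext a
    exact hw i a
  have key : ∀ x : DirectSum ι A, ∃ F : Finset ι, ∀ (Y : AddCommGrpCat.{u}) (g : c.pt ⟶ Y),
      (∀ i ∈ F, c.ι.app ⟨i⟩ ≫ g = 0) → g.hom (w.hom x) = 0 := by
    intro x
    induction x using DirectSum.induction_on with
    | zero => exact ⟨∅, fun Y g _ => by rw [map_zero, map_zero]⟩
    | of i a =>
      refine ⟨{i}, fun Y g hg => ?_⟩
      rw [hw]
      exact ConcreteCategory.congr_hom (hg i (Finset.mem_singleton_self i)) a
    | add x y hx hy =>
      obtain ⟨F, hF⟩ := hx
      obtain ⟨G, hG⟩ := hy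
      refine ⟨F ∪ G, fun Y g hg => ?_⟩
      rw [map_add, map_add, hF Y g (fun i hi => hg i (Finset.mem_union_left _ hi)),
        hG Y g (fun i hi => hg i (Finset.mem_union_right _ hi)), add_zero]
  obtain ⟨F, hF⟩ := key (r.hom σ)
  refine ⟨F, fun Y g hg => ?_⟩
  have h1 := hF Y g hg
  have e : w.hom (r.hom σ) = σ := ConcreteCategory.congr_hom hrw σ
  rwa [e] at h1

/-- `j_{U!} O_U` finitely factors when `U` is quasi-compact. -/
theorem finFactor_freeOn (hqc : CohCx.IsQcObject (hsh J U)) :
    Groth.Agent.H82.FinFactor (ModSite.freeOn O U) := by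
  intro ι X c hc φ
  haveI : PreservesColimitsOfShape (Discrete ι)
      (SheafOfModules.toSheaf.{u} (ModSite.ringSh O)) :=
    (Groth.Agent.H45.preservesColimits_toSheaf O).preservesColimitsOfShape
  haveI := preservesColimitsOfShape_sections hqc ι
  haveI : PreservesColimitsOfShape (Discrete ι) (secMod O U) :=
    comp_preservesColimitsOfShape _ _
  have hc' : IsColimit ((secMod O U).mapCocone c) := isColimitOfPreserves _ hc
  obtain ⟨F, hF⟩ := exists_finset_kill _ hc' (Groth.Agent.H31.freeOnHomEquiv O U c.pt φ)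
  refine ⟨F, fun Y g hg => ?_⟩
  apply (Groth.Agent.H31.freeOnHomEquiv O U Y).injective
  rw [Groth.Agent.H31.freeOnHomEquiv_naturality]
  have h0 : Groth.Agent.H31.freeOnHomEquiv O U Y 0 = 0 :=
    map_zero (freeOnHomAddEquiv O U Y)
  rw [h0]
  refine hF ((secMod O U).obj Y) ((secMod O U).map g) (fun i hi => ?_)
  have := hg i hi
  change (secMod O U).map (c.inj i) ≫ (secMod O U).map g = 0
  rw [← Functor.map_comp, this, Functor.map_zero]

end Groth.Agent.H45.QC
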