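import Groth.Agent.H45.QC.FiniteSubcover
import Groth.Agent.H45.QC.DirectSumPresheaf

/-!
# Sections over a quasi-compact object commute with direct sums of abelian sheaves
-/

set_option autoImplicit false
universe u
open CategoryTheory CategoryTheory.Limits Opposite DirectSum

namespace Groth.Agent.H45.QC

variable {C : Type u} [SmallCategory C] {J : GrothendieckTopology C}

/-- Two sections of an abelian sheaf which agree on a covering family are equal. -/
lemma sheaf_ext_ofArrows (G : Sheaf J AddCommGrpCat.{u}) {W : C} {κ : Type*} (Y : κ → C)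
    (g : ∀ k, Y k ⟶ W) (hg : Sieve.ofArrows Y g ∈ J W) (a b : G.obj.obj (op W))
    (h : ∀ k, (G.obj.map (g k).op).hom a = (G.obj.map (g k).op).hom b) : a = b := by
  have hsh : Presieve.IsSheaf J (G.obj ⋙ forget _) :=
    (isSheaf_iff_isSheaf_of_type _ _).1
      ((Presheaf.isSheaf_iff_isSheaf_forget J G.obj (forget _)).1 G.property)
  refine (hsh.isSeparated _ hg).ext ?_
  rintro Z q ⟨T, r, s, ⟨k⟩, rfl⟩
  have := congrArg (G.obj.map r.op).hom (h k)
  change (G.obj.map (r ≫ g k).op).hom a = (G.obj.map (r ≫ g k).op).hom b
  rw [op_comp, G.obj.map_comp]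
  exact this

variable {ι : Type u} (F : ι → Sheaf J AddCommGrpCat.{u})

/-- The sheafification of the presheaf direct sum, as a sheaf. -/
noncomputable abbrev dsSh : Sheaf J AddCommGrpCat.{u} := (presheafToSheaf J _).obj (dsPre F)

/-- Projections from the sheafified direct sum. -/
noncomputable def shProj (i : ι) : sheafify J (dsPre F) ⟶ (F i).obj :=
  sheafifyLift J (dsProj F i) (F i).property

lemma toSheafify_shProj (i : ι) : toSheafify J (dsPre F) ≫ shProj F i = dsProj F i :=
  toSheafify_sheafifyLift J _ _

lemma shProj_toSheafify_apply (i : ι) {V : Cᵒᵖ} (x : (dsPre F).obj V) :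
    ((shProj F i).app V).hom (((toSheafify J (dsPre F)).app V).hom x) = toDS F x i := by
  have := congrArg (fun t => t.app V) (toSheafify_shProj F i)
  exact ConcreteCategory.congr_hom this x

lemma toSheafify_app_injective (V : Cᵒᵖ) :
    Function.Injective ((toSheafify J (dsPre F)).app V).hom := by
  intro x y h
  refine DFinsupp.ext (fun i => ?_)
  have h1 := shProj_toSheafify_apply F i x
  have h2 := shProj_toSheafify_apply F i y
  rw [h] at h1
  exact h1.symm.trans h2

open Classical in
theorem toSheafify_app_surjective {W : C} (hW : CohCx.IsQcObject (hsh J W)) :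
    Function.Surjective ((toSheafify J (dsPre F)).app (op W)).hom := by
  intro t
  have hS := Presheaf.imageSieve_mem J (toSheafify J (dsPre F)) (U := op W) t
  obtain ⟨n, Y, g, hgS, hcov⟩ := exists_finite_subcover_sieve J hW _ hS
  choose x hx using hgS
  let s : ∀ i, (F i).obj.obj (op W) := fun i => ((shProj F i).app (op W)).hom t
  have hA : ∀ k i, toDS F (x k) i = ((F i).obj.map (g k).op).hom (s i) := by
    intro k i
    rw [← shProj_toSheafify_apply F i (x k)]
    have h1 : ((toSheafify J (dsPre F)).app (op (Y k))).hom (x k) =
      ((sheafify J (dsPre F)).map (g k).op).hom t := hx k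
    rw [h1]
    exact (ConcreteCategory.congr_hom ((shProj F i).naturality (g k).op) t)
  let T : Finset ι := Finset.univ.biUnion (fun k => (toDS F (x k)).support)
  have hB : ∀ i, i ∉ T → s i = 0 := by
    intro i hi
    refine sheaf_ext_ofArrows (F i) Y g hcov _ _ (fun k => ?_)
    rw [← hA k i, map_zero]
    have : i ∉ (toDS F (x k)).support :=
      fun h => hi (Finset.mem_biUnion.2 ⟨k, Finset.mem_univ _, h⟩)
    exact DFinsupp.notMem_support_iff.1 this
  let y : ⨁ i, secFam F (op W) i := DFinsupp.mk T (fun i => s i.1)
  have hy : ∀ i, y i = s i := by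
    intro i
    rw [DFinsupp.mk_apply]
    split_ifs with h
    · rfl
    · exact (hB i h).symm
  refine ⟨y, ?_⟩
  refine sheaf_ext_ofArrows (dsSh F) Y g hcov _ _ (fun k => ?_)
  have h1 : ((dsPre F).map (g k).op).hom y = x k := by
    refine DFinsupp.ext (fun i => ?_)
    have := dsPre_map_apply F (g k).op y i
    refine this.trans ?_
    change ((F i).obj.map (g k).op).hom (y i) = _
    rw [hy i, ← hA k i]
  have h2 := ConcreteCategory.congr_hom ((toSheafify J (dsPre F)).naturality (g k).op) y
  have h3 : ((toSheafify J (dsPre F)).app (op (Y k))).hom (x k) =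
      ((sheafify J (dsPre F)).map (g k).op).hom t := hx k
  change ((sheafify J (dsPre F)).map (g k).op).hom (((toSheafify J (dsPre F)).app (op W)).hom y) =
    ((sheafify J (dsPre F)).map (g k).op).hom t
  rw [← h3, ← h1]
  exact h2.symm

theorem isIso_toSheafify_app {W : C} (hW : CohCx.IsQcObject (hsh J W)) :
    IsIso ((toSheafify J (dsPre F)).app (op W)) :=
  (ConcreteCategory.isIso_iff_bijective _).2
    ⟨toSheafify_app_injective F (op W), toSheafify_app_surjective F hW⟩

/-- Sections over a quasi-compact object preserve the coproduct of a family of abelian sheaves. -/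
theorem preservesColimit_sections_functor {W : C} (hW : CohCx.IsQcObject (hsh J W)) :
    PreservesColimit (Discrete.functor F) ((sheafSections J AddCommGrpCat.{u}).obj (op W)) := by
  apply preservesColimit_of_preserves_colimit_cocone
    (Sheaf.isColimitSheafifyCocone (dsCocone F) (dsIsColimit F))
  refine IsColimit.ofIsoColimit (dsIsColimitEval F (op W))
    (Cocones.ext (@asIso _ _ _ _ ((toSheafify J (dsPre F)).app (op W))
      (isIso_toSheafify_app F hW)) ?_)
  intro j
  have := Sheaf.sheafifyCocone_ι_app_val (dsCocone F) j
  exact (congrArg (fun t => t.app (op W)) this).symm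

/-- Sections over a quasi-compact object commute with arbitrary direct sums of abelian sheaves. -/
theorem preservesColimitsOfShape_sections {W : C} (hW : CohCx.IsQcObject (hsh J W))
    (ι : Type u) :
    PreservesColimitsOfShape (Discrete ι) ((sheafSections J AddCommGrpCat.{u}).obj (op W)) where
  preservesColimit {K} := by
    have := preservesColimit_sections_functor (K.obj ∘ Discrete.mk) hW
    exact preservesColimit_of_iso_diagram _ (Discrete.natIsoFunctor (F := K)).symm

end Groth.Agent.H45.QC
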